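import Groth.Agent.CalgB.DerRes
import Mathlib.CategoryTheory.Limits.Constructions.EventuallyConstant

/-!
# Stepwise construction of bounded above resolutions without projectivity

`exists_resolution`: let `P` be a class of objects of an abelian category (stable under isomorphisms, finite sums,
containing zero objects), `K` a complex with cohomology bounded above by `b`, such that for every complex `E` with terms
in `P` in degrees `(m, b]` and every `f : E ⟶ K` whose cone has no cohomology in degrees `> m` there are `F` in `P` and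
a map from `F` to the cycles of the cone in degree `m` inducing an epimorphism onto the cohomology.
Then `K` admits a quasi-isomorphism from a complex of objects of `P` in degrees `≤ b`.

Adapted from `Groth.Agent.CalgB.DerRes` (which treats projectives).
-/

set_option autoImplicit false

open CategoryTheory CategoryTheory.Limits CategoryTheory.Pretriangulated CategoryTheory.Triangulated
open scoped ZeroObject

universe w v u

namespace Groth.Agent.Pic13.H565.QLRes

open DerivedCategory CochainComplex CochainComplex.HomComplex Groth.Agent.CalgB.DerTri Groth.Agent.CalgB.DerRes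

variable {C : Type u} [Category.{v} C] [Abelian C] [HasDerivedCategory.{w} C]

section Stages

variable (P : ObjectProperty C) (K : CochainComplex C ℤ) (b : ℤ)

/-- The `k`-th stage of the construction of a resolution of `K`. -/
structure Stage (k : ℕ) where
  /-- the complex -/
  E : CochainComplex C ℤ
  /-- the map -/
  f : E ⟶ K
  zero : ∀ i : ℤ, i ≤ b - k ∨ b < i → IsZero (E.X i)
  prop : ∀ i : ℤ, P (E.X i)
  isLE : (Q.obj (mappingCone f)).IsLE (b - k)

/-- The hypotheses. -/
structure ResData : Prop where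
  P_iso : ∀ {X Y : C}, (X ≅ Y) → P X → P Y
  P_zero : ∀ {X : C}, IsZero X → P X
  P_sum : ∀ {X Y : C}, P X → P Y → P (X ⊞ Y)
  top : ∀ (E : CochainComplex C ℤ) (f : E ⟶ K) (m : ℤ), (∀ i, i ≤ m ∨ b < i → IsZero (E.X i)) →
    (∀ i, P (E.X i)) → (Q.obj (mappingCone f)).IsLE m →
    ∃ (F : C) (q : F ⟶ (mappingCone f).cycles m), P F ∧ Epi (q ≫ (mappingCone f).homologyπ m)

variable {P K b}

theorem stage_zero (h : ResData P K b) (hb : (Q.obj K).IsLE b) : Nonempty (Stage P K b 0) := by
  have hiso : Nonempty (Q.obj K ≅ Q.obj (mappingCone (0 : (0 : CochainComplex C ℤ) ⟶ K))) := by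
    have hT := mappingCone_triangle_distinguished (0 : (0 : CochainComplex C ℤ) ⟶ K)
    have h0 : IsIso ((Q.mapTriangle.obj (mappingCone.triangle (0 : (0 : CochainComplex C ℤ) ⟶ K))).mor₂) := by
      rw [← Triangle.isZero₁_iff_isIso₂ _ hT]
      exact Q.map_isZero (isZero_zero _)
    exact ⟨@asIso _ _ _ _ _ h0⟩
  obtain ⟨e⟩ := hiso
  have hz : ∀ i : ℤ, IsZero ((0 : CochainComplex C ℤ).X i) := fun i =>
    (HomologicalComplex.eval C (ComplexShape.up ℤ) i).map_isZero (isZero_zero _)
  refine ⟨⟨0, 0, fun i _ => hz i, fun i => h.P_zero (hz i), ?_⟩⟩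
  simp only [Nat.cast_zero, sub_zero]
  exact TStructure.t.isLE_of_iso e b

theorem stage_succ (h : ResData P K b) (k : ℕ) (s : Stage P K b k) :
    ∃ (s' : Stage P K b (k + 1)) (ι : s.E ⟶ s'.E), ι ≫ s'.f = s.f ∧ ∀ i : ℤ, b - k < i → IsIso (ι.f i) := by
  obtain ⟨m, hm⟩ : ∃ m : ℤ, m = b - k := ⟨_, rfl⟩
  obtain ⟨n, hn⟩ : ∃ n : ℤ, m + 1 = n := ⟨_, rfl⟩
  have hLE : (Q.obj (mappingCone s.f)).IsLE m := by rw [hm]; exact s.isLE
  obtain ⟨F, q, hF, hq⟩ := h.top s.E s.f m (fun i hi => s.zero i (by omega)) s.prop hLE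
  obtain ⟨x, y, hz⟩ := mappingCone.decomp_to s.f (q ≫ (mappingCone s.f).iCycles m) n hn
  have hzd : (q ≫ (mappingCone s.f).iCycles m) ≫ (mappingCone s.f).d m n = 0 := by simp
  have hzd' := hzd
  rw [hz, Preadditive.add_comp, Category.assoc, Category.assoc,
    mappingCone.inl_v_d _ n m (n + 1) (by omega) (by omega), mappingCone.inr_f_d] at hzd'
  have hx : x ≫ s.E.d n (n + 1) = 0 := by
    have h1 := hzd' =≫ (mappingCone.fst s.f).1.v n (n + 1) rfl
    simpa using h1
  have hxy : x ≫ s.f.f n = (-y) ≫ K.d m n := by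
    have h1 := hzd' =≫ (mappingCone.snd s.f).v n n (add_zero n)
    simp at h1
    rw [Preadditive.neg_comp]
    exact eq_neg_of_add_eq_zero_left h1
  -- the single complex, the attaching map and the homotopy
  obtain ⟨S, e, g, α, hα, hgn, hαv, hSz, hSd, ⟨eS⟩⟩ := exists_attaching s.f n m hn x hx (-y) hxy
  have hcyc : attCyc g s.f n m hn α = e.hom ≫ q ≫ (mappingCone s.f).iCycles m := by
    unfold attCyc
    rw [hz, hgn, hαv]
    simp
  have hc : attCyc g s.f n m hn α ≫ (mappingCone s.f).d m n = 0 := by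
    rw [hcyc, Category.assoc, hzd, comp_zero]
  have hepi : Epi ((mappingCone s.f).liftCycles (attCyc g s.f n m hn α) n (by simp [hn]) hc ≫
        (mappingCone s.f).homologyπ m) := by
    have : (mappingCone s.f).liftCycles (attCyc g s.f n m hn α) n (by simp [hn]) hc = e.hom ≫ q := by
      rw [← cancel_mono ((mappingCone s.f).iCycles m)]
      simp [hcyc]
    rw [this, Category.assoc]
    exact epi_comp _ _
  have h3 := epi_homologyMap_att g s.f n m hn α hα hSd hc hepi
  -- the cone of the inclusion
  have hcone : Nonempty (Q.obj (mappingCone (mappingCone.inr g)) ≅ (DerivedCategory.singleFunctor C m).obj F) := by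
    obtain ⟨e'⟩ := cone_inr_iso g
    exact ⟨e' ≪≫ eS⟩
  obtain ⟨ec⟩ := hcone
  have hdesc : mappingCone.inr g ≫ mappingCone.desc g α s.f hα = s.f := mappingCone.inr_desc g α s.f hα
  have hXiso : ∀ i, Nonempty ((mappingCone g).X i ≅ (S.X (i + 1) ⊞ s.E.X i)) := fun i =>
    ⟨HomologicalComplex.homotopyCofiber.XIsoBiprod g i (i + 1) rfl⟩
  have hinr : ∀ i, i ≠ m → IsIso ((mappingCone.inr g).f i) := fun i hi => by
    refine ⟨(mappingCone.snd g).v i i (add_zero i), mappingCone.inr_f_snd_v g i, ?_⟩
    have h1 := mappingCone.id_X g i (i + 1) rfl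
    rw [← h1, (hSz (i + 1) (by omega)).eq_of_tgt ((mappingCone.fst g).1.v i (i + 1) rfl) 0, zero_comp, zero_add]
  refine ⟨⟨mappingCone g, mappingCone.desc g α s.f hα, fun i hi => ?_, fun i => ?_, ?_⟩,
    mappingCone.inr g, hdesc, fun i hi => hinr i (by omega)⟩
  · obtain ⟨ei⟩ := hXiso i
    refine IsZero.of_iso ?_ ei
    rw [biprod_isZero_iff]
    push_cast at hi
    exact ⟨hSz _ (by omega), s.zero _ (by omega)⟩
  · obtain ⟨ei⟩ := hXiso i
    refine h.P_iso ei.symm (h.P_sum ?_ (s.prop i))
    by_cases hi : i + 1 = n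
    · subst hi
      exact h.P_iso e.symm hF
    · exact h.P_zero (hSz _ hi)
  · refine cone_step (mappingCone.inr g) (mappingCone.desc g α s.f hα) m _ (by push_cast; omega) ?_ ?_ h3
    · exact TStructure.t.isLE_of_iso ec.symm m
    · rw [hdesc]
      exact hLE

/-- A choice of successive stages. -/
noncomputable def stageSeq (h : ResData P K b) (s₀ : Stage P K b 0) : (k : ℕ) → Stage P K b k
  | 0 => s₀
  | k + 1 => (stage_succ h k (stageSeq h s₀ k)).choose

/-- The transition maps between the stages. -/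
noncomputable def stageι (h : ResData P K b) (s₀ : Stage P K b 0) (k : ℕ) :
    (stageSeq h s₀ k).E ⟶ (stageSeq h s₀ (k + 1)).E :=
  (stage_succ h k (stageSeq h s₀ k)).choose_spec.choose

theorem stageι_comp (h : ResData P K b) (s₀ : Stage P K b 0) (k : ℕ) :
    stageι h s₀ k ≫ (stageSeq h s₀ (k + 1)).f = (stageSeq h s₀ k).f :=
  (stage_succ h k (stageSeq h s₀ k)).choose_spec.choose_spec.1

theorem isIso_stageι (h : ResData P K b) (s₀ : Stage P K b 0) (k : ℕ) (i : ℤ) (hi : b - k < i) :
    IsIso ((stageι h s₀ k).f i) :=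
  (stage_succ h k (stageSeq h s₀ k)).choose_spec.choose_spec.2 i hi

/-- The sequence of the stages. -/
noncomputable def stageFunctor (h : ResData P K b) (s₀ : Stage P K b 0) : ℕ ⥤ CochainComplex C ℤ :=
  Functor.ofSequence (X := fun k => (stageSeq h s₀ k).E) (stageι h s₀)

theorem stageFunctor_map (h : ResData P K b) (s₀ : Stage P K b 0) (k : ℕ) :
    (stageFunctor h s₀).map (homOfLE (Nat.le_add_right k 1)) = stageι h s₀ k :=
  Functor.ofSequence_map_homOfLE_succ _ _

/-- The cocone on the sequence of the stages given by the maps to `K`. -/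
noncomputable def stageCocone (h : ResData P K b) (s₀ : Stage P K b 0) : Cocone (stageFunctor h s₀) where
  pt := K
  ι := NatTrans.ofSequence (fun k => (stageSeq h s₀ k).f) (fun k => by
    rw [stageFunctor_map]
    exact (stageι_comp h s₀ k).trans (Category.comp_id _).symm)

theorem stageFunctor_isIso (h : ResData P K b) (s₀ : Stage P K b 0) (i : ℤ) (k : ℕ) (hk : b - k < i) :
    (stageFunctor h s₀ ⋙ HomologicalComplex.eval C (ComplexShape.up ℤ) i).IsEventuallyConstantFrom k := by
  have key : ∀ (j l : ℕ) (hl : l = k + j), IsIso ((stageFunctor h s₀ ⋙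
      HomologicalComplex.eval C (ComplexShape.up ℤ) i).map (homOfLE (by omega : k ≤ l))) := by
    intro j
    induction j with
    | zero =>
      rintro l hl
      obtain rfl : l = k := by omega
      have : (homOfLE (le_refl l)) = 𝟙 l := rfl
      rw [this, CategoryTheory.Functor.map_id]
      infer_instance
    | succ j ih =>
      rintro l hl
      obtain rfl : l = (k + j) + 1 := by omega
      have h1 : (homOfLE (by omega : k ≤ k + j + 1)) =
          homOfLE (by omega : k ≤ k + j) ≫ homOfLE (by omega : k + j ≤ k + j + 1) := rfl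
      rw [h1, Functor.map_comp]
      have h2 := ih (k + j) rfl
      have h3 : IsIso ((stageFunctor h s₀ ⋙ HomologicalComplex.eval C (ComplexShape.up ℤ) i).map
          (homOfLE (by omega : k + j ≤ k + j + 1))) := by
        have h4 : (stageFunctor h s₀).map (homOfLE (by omega : k + j ≤ k + j + 1)) = stageι h s₀ (k + j) :=
          stageFunctor_map h s₀ (k + j)
        rw [Functor.comp_map, h4]
        exact isIso_stageι h s₀ (k + j) i (by push_cast; omega)
      exact IsIso.comp_isIso
  intro l φ
  obtain ⟨j, hj⟩ := Nat.exists_eq_add_of_le (leOfHom φ)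
  obtain rfl := Subsingleton.elim φ (homOfLE (by omega))
  exact key j l hj

theorem hasColimit_stageFunctor_eval (h : ResData P K b) (s₀ : Stage P K b 0) (i : ℤ) :
    HasColimit (stageFunctor h s₀ ⋙ HomologicalComplex.eval C (ComplexShape.up ℤ) i) :=
  (stageFunctor_isIso h s₀ i (b - i + 1).toNat (by omega)).hasColimit

end Stages

/-- **Resolutions.** See the module docstring. -/
theorem exists_resolution {P : ObjectProperty C} {K : CochainComplex C ℤ} {b : ℤ}
    (h : ResData P K b) (hb : (Q.obj K).IsLE b) :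
    ∃ (E : CochainComplex C ℤ) (f : E ⟶ K), QuasiIso f ∧ (∀ i, P (E.X i)) ∧ ∀ i, b < i → IsZero (E.X i) := by
  obtain ⟨s₀⟩ := stage_zero h hb
  have := hasColimit_stageFunctor_eval h s₀
  let c := colimit.cocone (stageFunctor h s₀)
  let hc : IsColimit c := colimit.isColimit (stageFunctor h s₀)
  have hiso : ∀ (i : ℤ) (k : ℕ), b - k < i → IsIso ((c.ι.app k).f i) := fun i k hk =>
    (stageFunctor_isIso h s₀ i k hk).isIso_ι_of_isColimit
      (isColimitOfPreserves (HomologicalComplex.eval C (ComplexShape.up ℤ) i) hc)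
  have hfac : ∀ k, c.ι.app k ≫ hc.desc (stageCocone h s₀) = (stageSeq h s₀ k).f := fun k =>
    hc.fac (stageCocone h s₀) k
  refine ⟨c.pt, hc.desc (stageCocone h s₀), ?_, fun i => ?_, fun i hi => ?_⟩
  · rw [quasiIso_iff]
    intro i
    obtain ⟨k, hk⟩ : ∃ k : ℕ, b - k < i - 1 := ⟨(b - i + 2).toNat, by omega⟩
    have h1 : QuasiIsoAt (c.ι.app k) i :=
      quasiIsoAt_of_isIso _ i (hiso _ k hk) (hiso _ k (by omega)) (hiso _ k (by omega))
    have h2 : QuasiIsoAt (c.ι.app k ≫ hc.desc (stageCocone h s₀)) i := by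
      refine (hfac k).symm ▸ ?_
      rw [← isIso_homologyFunctor_map_Q_iff]
      exact ((isLE_obj₃_iff (mappingCone_triangle_distinguished (stageSeq h s₀ k).f) (b - k + 1) (b - k) rfl).1
        (stageSeq h s₀ k).isLE).1 i (by omega)
    exact (quasiIsoAt_iff_comp_left (c.ι.app k) _ i).1 h2
  · obtain ⟨k, hk⟩ : ∃ k : ℕ, b - k < i := ⟨(b - i + 2).toNat, by omega⟩
    have := hiso i k hk
    exact h.P_iso (asIso ((c.ι.app k).f i)) ((stageSeq h s₀ k).prop i)
  · have := hiso i 0 (by simpa using hi)
    exact IsZero.of_iso ((stageSeq h s₀ 0).zero i (Or.inr hi)) (asIso ((c.ι.app 0).f i)).symm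

end Groth.Agent.Pic13.H565.QLRes
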