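import Groth.Agent.Pic13.H565.QLRes
import Groth.Prelude.Def_PCoh
import Mathlib.Algebra.Homology.DerivedCategory.Fractions
import Mathlib.Algebra.Homology.Augment
import Mathlib.CategoryTheory.ObjectProperty.ContainsZero

/-!
# Pseudo-coherence with respect to a quasi-liftable class of objects (SGA 6, I 1-2, punctual case)

* `Hyp P`: the class `P` is stable under isomorphisms and finite sums, contains zero, is quasi-stable under kernels of
  epimorphisms and quasi-liftable.
* `isOfFiniteType_cycles`: `Z^n(E)` is of finite type if `E` is bounded above, `E^i ∈ P` for `i ≥ n` and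
  `H^i(E) = 0` for `i > n`.
* `Hyp.exists_lift_resolution`: for a quasi-isomorphism `s : A ⟶ L` with `L` strictly pseudo-coherent there is a
  quasi-isomorphism `L' ⟶ A` with `L'` strictly pseudo-coherent.
* `Hyp.exists_resolution_of_isPC`: pseudo-coherent objects are represented by strictly pseudo-coherent complexes.
-/

set_option autoImplicit false

open CategoryTheory CategoryTheory.Limits CategoryTheory.Pretriangulated CategoryTheory.Triangulated
open scoped ZeroObject

universe w v u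

namespace Groth.Agent.Pic13.H565.QLift

open DerivedCategory CochainComplex CochainComplex.HomComplex Groth.Agent.CalgB.DerTri
  Groth.Agent.Pic13.H565.QLRes

variable {C : Type u} [Category.{v} C] [Abelian C] {P : ObjectProperty C}

/-- The standing hypotheses on the class `P`. -/
structure Hyp (P : ObjectProperty C) : Prop where
  iso : ∀ {X Y : C}, (X ≅ Y) → P X → P Y
  zero : ∀ {X : C}, IsZero X → P X
  sum : ∀ {X Y : C}, P X → P Y → P (X ⊞ Y)
  qs : PCoh.IsQuasiStableUnderKernels P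
  ql : PCoh.IsQuasiLiftable P

theorem Hyp.mk' (P : ObjectProperty C) [P.IsClosedUnderIsomorphisms] [P.ContainsZero]
    (hsum : ∀ X Y : C, P X → P Y → P (X ⨯ Y))
    (hqs : PCoh.IsQuasiStableUnderKernels P) (hql : PCoh.IsQuasiLiftable P) : Hyp P where
  iso e h := P.prop_of_iso e h
  zero {X} hX := by
    obtain ⟨Z, hZ, hPZ⟩ := ObjectProperty.ContainsZero.exists_zero (P := P)
    exact P.prop_of_iso (hZ.iso hX) hPZ
  sum {X Y} hX hY := P.prop_of_iso (biprod.isoProd X Y).symm (hsum X Y hX hY)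
  qs := hqs
  ql := hql

/-- The part of a complex in degrees `≥ n`, as a complex indexed by `ℕ`. -/
def restr (E : CochainComplex C ℤ) (n : ℤ) : CochainComplex C ℕ where
  X i := E.X (n + i)
  d i j := E.d (n + i) (n + j)
  shape i j hij := E.shape _ _ (fun h => hij (by
    simp only [ComplexShape.up_Rel] at h ⊢
    omega))
  d_comp_d' _ _ _ _ _ := E.d_comp_d _ _ _

/-- The complex `0 ⟶ Z^n(E) ⟶ E^n ⟶ E^{n+1} ⟶ ⋯`. -/
noncomputable def aug (E : CochainComplex C ℤ) (n : ℤ) : CochainComplex C ℕ :=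
  CochainComplex.augment (restr E n) (X := E.cycles n)
    (E.iCycles n ≫ (E.XIsoOfEq (by simp : n = n + ((0 : ℕ) : ℤ))).hom) (by
      rw [Category.assoc]
      change E.iCycles n ≫ (E.XIsoOfEq _).hom ≫ E.d (n + ((0 : ℕ) : ℤ)) (n + ((1 : ℕ) : ℤ)) = 0
      simp)

theorem exactAt_aug (E : CochainComplex C ℤ) (n : ℤ) (hE : ∀ i, n < i → E.ExactAt i) (i : ℕ) :
    (aug E n).ExactAt i := by
  rcases i with _ | _ | i
  · rw [HomologicalComplex.exactAt_iff' _ 0 0 1 (by simp) (by simp)]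
    rw [ShortComplex.exact_iff_mono _ (by
      change (aug E n).d 0 0 = 0
      exact (aug E n).shape _ _ (by simp))]
    change Mono (E.iCycles n ≫ (E.XIsoOfEq _).hom)
    infer_instance
  · rw [HomologicalComplex.exactAt_iff' _ 0 1 2 (by simp) (by simp)]
    rw [ShortComplex.exact_iff_exact_up_to_refinements]
    intro T x hx
    change T ⟶ E.X (n + ((0 : ℕ) : ℤ)) at x
    change x ≫ E.d (n + ((0 : ℕ) : ℤ)) (n + ((1 : ℕ) : ℤ)) = 0 at hx
    refine ⟨T, 𝟙 T, inferInstance, E.liftCycles (x ≫ (E.XIsoOfEq (by simp : n = n + ((0 : ℕ) : ℤ))).inv)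
      (n + 1) (by simp) ?_, ?_⟩
    · rw [Category.assoc]
      have : x ≫ E.d (n + ((0 : ℕ) : ℤ)) (n + 1) = 0 := hx
      simpa using this
    · change 𝟙 T ≫ x = _ ≫ (E.iCycles n ≫ (E.XIsoOfEq _).hom)
      simp
  · rw [HomologicalComplex.exactAt_iff' _ (i + 1) (i + 2) (i + 3) (by simp) (by simp)]
    have h := hE (n + ((i + 1 : ℕ) : ℤ)) (by push_cast; omega)
    rw [HomologicalComplex.exactAt_iff' _ (n + ((i : ℕ) : ℤ)) (n + ((i + 1 : ℕ) : ℤ))
      (n + ((i + 2 : ℕ) : ℤ)) (by simp; omega) (by simp; omega)] at h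
    exact h

theorem isOfFiniteType_cycles (hP : Hyp P) (E : CochainComplex C ℤ) (n b : ℤ)
    (hb : ∀ i, b < i → IsZero (E.X i)) (hE : ∀ i, n ≤ i → P (E.X i)) (hex : ∀ i, n < i → E.ExactAt i) :
    PCoh.IsOfFiniteType P (E.cycles n) := by
  refine hP.qs (aug E n) (exactAt_aug E n hex) ⟨(b - n + 2).toNat, fun i hi => ?_⟩ (fun i hi => ?_)
  · obtain ⟨j, rfl⟩ : ∃ j, i = j + 1 := ⟨i - 1, by omega⟩
    exact hb (n + (j : ℤ)) (by omega)
  · obtain ⟨j, rfl⟩ : ∃ j, i = j + 1 := ⟨i - 1, by omega⟩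
    exact hE (n + (j : ℤ)) (by omega)

/-- Quasi-liftability: lifting through epimorphisms onto objects of finite type. -/
theorem exists_lift (hP : Hyp P) {Z H F : C} (p : Z ⟶ H) [Epi p] (π : F ⟶ H) [Epi π] (hF : P F) :
    ∃ (F' : C) (q : F' ⟶ Z), P F' ∧ Epi (q ≫ p) := by
  obtain ⟨F', v, hF', hv⟩ := hP.ql _ _ (pullback.snd p π) inferInstance hF
  refine ⟨F', v ≫ pullback.fst p π, hF', ?_⟩
  rw [Category.assoc, pullback.condition, ← Category.assoc]
  exact epi_comp _ _

variable [HasDerivedCategory.{w} C]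

theorem exactAt_of_isLE (M : CochainComplex C ℤ) (m : ℤ) (h : (Q.obj M).IsLE m) (i : ℤ) (hi : m < i) :
    M.ExactAt i := by
  rw [HomologicalComplex.exactAt_iff_isZero_homology]
  exact IsZero.of_iso (isZero_of_isLE (Q.obj M) m i hi) ((homologyFunctorFactors C i).app M).symm

/-- The top cohomology of an object represented by a complex with terms in `P` from the top on. -/
theorem exists_top (hP : Hyp P) (M M' : CochainComplex C ℤ) (e : Q.obj M ≅ Q.obj M') (m b : ℤ)
    (hb : ∀ i, b < i → IsZero (M'.X i)) (hM' : ∀ i, m ≤ i → P (M'.X i)) (hM : (Q.obj M).IsLE m) :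
    ∃ (F : C) (q : F ⟶ M.cycles m), P F ∧ Epi (q ≫ M.homologyπ m) := by
  have hLE : (Q.obj M').IsLE m := TStructure.t.isLE_of_iso e m
  obtain ⟨F, π, hF, hπ⟩ := isOfFiniteType_cycles hP M' m b hb hM' (exactAt_of_isLE M' m hLE)
  let e' : M'.homology m ≅ M.homology m :=
    ((homologyFunctorFactors C m).app M').symm ≪≫ (homologyFunctor C m).mapIso e.symm ≪≫
      (homologyFunctorFactors C m).app M
  have : Epi (π ≫ M'.homologyπ m ≫ e'.hom) := epi_comp _ _
  exact exists_lift hP (M.homologyπ m) (π ≫ M'.homologyπ m ≫ e'.hom) hF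

theorem cone_iso {E K E' K' : CochainComplex C ℤ} (f : E ⟶ K) (g : E' ⟶ K') (e₁ : Q.obj E ≅ Q.obj E')
    (e₂ : Q.obj K ≅ Q.obj K') (comm : Q.map f ≫ e₂.hom = e₁.hom ≫ Q.map g) :
    Nonempty (Q.obj (mappingCone f) ≅ Q.obj (mappingCone g)) :=
  ⟨Triangle.π₃.mapIso (isoTriangleOfIso₁₂ _ _ (mappingCone_triangle_distinguished f)
    (mappingCone_triangle_distinguished g) e₁ e₂ comm)⟩

omit [HasDerivedCategory.{w} C] in
theorem Hyp.cone_prop (hP : Hyp P) {E K : CochainComplex C ℤ} (f : E ⟶ K) (i : ℤ) (hE : P (E.X (i + 1)))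
    (hK : P (K.X i)) : P ((mappingCone f).X i) :=
  hP.iso (HomologicalComplex.homotopyCofiber.XIsoBiprod f i (i + 1) rfl).symm (hP.sum hE hK)

omit [HasDerivedCategory.{w} C] in
theorem cone_isZero {E K : CochainComplex C ℤ} (f : E ⟶ K) (i : ℤ) (hE : IsZero (E.X (i + 1)))
    (hK : IsZero (K.X i)) : IsZero ((mappingCone f).X i) :=
  IsZero.of_iso ((biprod_isZero_iff _ _).2 ⟨hE, hK⟩)
    (HomologicalComplex.homotopyCofiber.XIsoBiprod f i (i + 1) rfl)

theorem isLE_of_isZero (L : CochainComplex C ℤ) (b : ℤ) (hb : ∀ i, b < i → IsZero (L.X i)) :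
    (Q.obj L).IsLE b := by
  rw [isLE_Q_obj_iff, CochainComplex.isLE_iff]
  intro i hi
  rw [HomologicalComplex.exactAt_iff]
  exact ShortComplex.exact_of_isZero_X₂ _ (hb i hi)

/-- Strictly pseudo-coherent complexes are cofinal among complexes quasi-isomorphic to a strictly
pseudo-coherent one. -/
theorem Hyp.exists_lift_resolution (hP : Hyp P) {A L : CochainComplex C ℤ} (s : A ⟶ L) [IsIso (Q.map s)]
    (hL : PCoh.IsStrictPCAll P L) : ∃ (L' : CochainComplex C ℤ) (t : L' ⟶ A), PCoh.IsStrictPCAll P L' ∧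
      QuasiIso t := by
  obtain ⟨⟨b, hb⟩, hLP⟩ := hL
  have hA : (Q.obj A).IsLE b := by
    have := isLE_of_isZero L b hb
    exact TStructure.t.isLE_of_iso (asIso (Q.map s)).symm b
  have h : ResData P A b :=
    { P_iso := hP.iso
      P_zero := hP.zero
      P_sum := hP.sum
      top := fun E f m hE hEP hLE => by
        obtain ⟨e⟩ := cone_iso f (f ≫ s) (Iso.refl _) (asIso (Q.map s)) (by simp)
        exact exists_top hP _ (mappingCone (f ≫ s)) e m (max b m)
          (fun i hi => cone_isZero _ i (hE _ (Or.inr (by omega))) (hb _ (by omega)))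
          (fun i _ => hP.cone_prop _ i (hEP _) (hLP _)) hLE }
  obtain ⟨E, f, hf, hE, hE'⟩ := exists_resolution h hA
  exact ⟨E, f, ⟨⟨b, hE'⟩, hE⟩, hf⟩

/-- Pseudo-coherent objects are represented by strictly pseudo-coherent complexes. -/
theorem Hyp.exists_resolution_of_isPC (hP : Hyp P) (F : DerivedCategory C) (hF : PCoh.IsPC P F) :
    ∃ E : CochainComplex C ℤ, PCoh.IsStrictPCAll P E ∧ Nonempty (Q.obj E ≅ F) := by
  obtain ⟨K, ⟨⟨b, hb⟩, -⟩, ⟨eK⟩⟩ := hF 0
  have h : ResData P K b :=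
    { P_iso := hP.iso
      P_zero := hP.zero
      P_sum := hP.sum
      top := fun E f m hE hEP hLE => by
        obtain ⟨Em, ⟨⟨b', hb'⟩, hEm⟩, ⟨em⟩⟩ := hF m
        let e₂ : Q.obj K ≅ Q.obj Em := eK ≪≫ em.symm
        obtain ⟨A, s, hs, g, hg⟩ := right_fac (Q.map f ≫ e₂.hom)
        obtain ⟨L', t, hL', ht⟩ := hP.exists_lift_resolution s (⟨⟨b, fun i hi => hE i (Or.inr hi)⟩, hEP⟩ :
          PCoh.IsStrictPCAll P E)
        have : IsIso (Q.map t) := by rw [isIso_Q_map_iff_quasiIso]; exact ht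
        obtain ⟨e⟩ := cone_iso f (t ≫ g) (asIso (Q.map t ≫ Q.map s)).symm e₂ (by
          rw [hg]
          simp)
        obtain ⟨⟨b₁, hb₁⟩, hL'P⟩ := hL'
        exact exists_top hP _ (mappingCone (t ≫ g)) e m (max b₁ b')
          (fun i hi => cone_isZero _ i (hb₁ _ (by omega)) (hb' _ (by omega)))
          (fun i hi => hP.cone_prop _ i (hL'P _) (hEm _ hi)) hLE }
  obtain ⟨E, f, hf, hE, hE'⟩ := exists_resolution h (isLE_of_isZero K b hb)
  have : IsIso (Q.map f) := by rw [isIso_Q_map_iff_quasiIso]; exact hf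
  exact ⟨E, ⟨⟨b, hE'⟩, hE⟩, ⟨asIso (Q.map f) ≪≫ eK⟩⟩

end Groth.Agent.Pic13.H565.QLift
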